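import Mathlib

/-!
# Groups with a dominating π-subgroup and π-homogeneous automizers: Sylow tools
-/

namespace Cfsg.Agent.Lib.PiHom69

open Subgroup

variable {G : Type*} [Group G]

/-- `H` is a π-subgroup containing a conjugate of every π-subgroup, and the automizer of every
non-trivial π-subgroup is a π-group. -/
structure Hyp (π : Set ℕ) (H : Subgroup G) : Prop where
  pi : ∀ q : ℕ, q.Prime → q ∣ Nat.card ↥H → q ∈ π
  conj : ∀ U : Subgroup G, (∀ q : ℕ, q.Prime → q ∣ Nat.card ↥U → q ∈ π) →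
    ∃ g : G, ∀ u ∈ U, g * u * g⁻¹ ∈ H
  hom : ∀ U : Subgroup G, U ≠ ⊥ → (∀ q : ℕ, q.Prime → q ∣ Nat.card ↥U → q ∈ π) →
    ∀ q : ℕ, q.Prime → q ∣ (centralizer (U : Set G)).relIndex (normalizer (U : Set G)) → q ∈ π

/-- Conjugate of a subgroup. -/
def cj (g : G) (U : Subgroup G) : Subgroup G := U.map (MulAut.conj g).toMonoidHom

theorem mem_cj {g : G} {U : Subgroup G} {x : G} : x ∈ cj g U ↔ g⁻¹ * x * g ∈ U := by
  unfold cj
  rw [mem_map_equiv, MulAut.conj_symm_apply]

theorem conj_mem_cj {g : G} {U : Subgroup G} {u : G} (hu : u ∈ U) : g * u * g⁻¹ ∈ cj g U := by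
  rw [mem_cj]; simpa [mul_assoc] using hu

theorem cj_le_iff {g : G} {U V : Subgroup G} : cj g U ≤ V ↔ ∀ u ∈ U, g * u * g⁻¹ ∈ V := by
  refine ⟨fun h u hu => h (conj_mem_cj hu), fun h x hx => ?_⟩
  have := h _ (mem_cj.mp hx)
  simpa [mul_assoc] using this

theorem cj_cj (g h : G) (U : Subgroup G) : cj g (cj h U) = cj (g * h) U := by
  ext x; simp [mem_cj, mul_assoc]

theorem cj_one (U : Subgroup G) : cj 1 U = U := by
  ext x; simp [mem_cj]

theorem card_cj (g : G) (U : Subgroup G) : Nat.card ↥(cj g U) = Nat.card ↥U :=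
  (Nat.card_congr (U.equivMapOfInjective _ (MulAut.conj g).injective).toEquiv).symm

theorem cj_mono {g : G} {U V : Subgroup G} (h : U ≤ V) : cj g U ≤ cj g V := map_mono h

variable [Finite G] {p : ℕ} [hp : Fact p.Prime]

/-- `T` is a Sylow `p`-subgroup of the subgroup `Y`. -/
def IsSyl (p : ℕ) (T Y : Subgroup G) : Prop :=
  T ≤ Y ∧ Nat.card ↥T = p ^ (Nat.card ↥Y).factorization p

theorem IsSyl.isPGroup {T Y : Subgroup G} (h : IsSyl p T Y) : IsPGroup p ↥T :=
  IsPGroup.of_card h.2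

/-- A `p`-subgroup of `Y` lies in a Sylow `p`-subgroup of `Y`. -/
theorem exists_isSyl_ge {P Y : Subgroup G} (hP : IsPGroup p ↥P) (hPY : P ≤ Y) :
    ∃ T, IsSyl p T Y ∧ P ≤ T := by
  obtain ⟨S, hS⟩ := IsPGroup.exists_le_sylow
    (hP.comap_of_injective Y.subtype Y.subtype_injective : IsPGroup p ↥(P.comap Y.subtype))
  refine ⟨(S : Subgroup ↥Y).map Y.subtype, ⟨map_subtype_le _, ?_⟩, ?_⟩
  · rw [← Nat.card_congr ((S : Subgroup ↥Y).equivMapOfInjective _ Y.subtype_injective).toEquiv]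
    exact S.card_eq_multiplicity
  · intro x hx
    exact ⟨⟨x, hPY hx⟩, hS hx, rfl⟩

/-- Sylow subgroups of `Y` are conjugate under `Y`. -/
theorem IsSyl.exists_conj {T T' Y : Subgroup G} (hT : IsSyl p T Y) (hT' : IsSyl p T' Y) :
    ∃ y ∈ Y, cj y T = T' := by
  have hc : ∀ {U : Subgroup G}, IsSyl p U Y →
      Nat.card ↥(U.subgroupOf Y) = p ^ (Nat.card ↥Y).factorization p := fun {U} hU =>
    (Nat.card_congr (subgroupOfEquivOfLe hU.1).toEquiv).trans hU.2
  obtain ⟨y, hy⟩ := MulAction.exists_smul_eq ↥Y (Sylow.ofCard _ (hc hT)) (Sylow.ofCard _ (hc hT'))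
  refine ⟨y, y.2, ?_⟩
  have hsub : cj (y : G) T ≤ T' := by
    rw [cj_le_iff]
    intro t ht
    have h1 : y * ⟨t, hT.1 ht⟩ * y⁻¹ ∈ ((Sylow.ofCard _ (hc hT') : Sylow p ↥Y) : Subgroup ↥Y) := by
      rw [← hy, Sylow.coe_subgroup_smul]
      exact smul_mem_pointwise_smul ⟨t, hT.1 ht⟩ (MulAut.conj y) _ (mem_subgroupOf.mpr ht)
    exact mem_subgroupOf.mp h1
  exact eq_of_le_of_card_ge hsub (by rw [card_cj, hT.2, hT'.2])

/-- A `p`-subgroup of `Y` of full order is Sylow. -/
theorem isSyl_of_le_card {T Y : Subgroup G} (hT : IsPGroup p ↥T) (hTY : T ≤ Y)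
    (hc : p ^ (Nat.card ↥Y).factorization p ≤ Nat.card ↥T) : IsSyl p T Y := by
  obtain ⟨S, hS, hTS⟩ := exists_isSyl_ge hT hTY
  exact ⟨hTY, le_antisymm ((card_le_of_le hTS).trans hS.2.le) hc⟩

/-- Normalisers grow in `p`-groups. -/
theorem lt_inf_normalizer {Q S : Subgroup G} (hS : IsPGroup p ↥S) (hQS : Q < S) :
    Q < S ⊓ normalizer (Q : Set G) := by
  refine lt_of_le_of_ne (le_inf hQS.le Subgroup.le_normalizer) fun heq => ?_
  haveI := hS.isNilpotent
  have hlt' : Q.subgroupOf S < ⊤ := lt_top_iff_ne_top.mpr fun he =>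
    hQS.not_ge (subgroupOf_eq_top.mp he)
  have hn := Group.normalizerCondition_of_isNilpotent (Q.subgroupOf S) hlt'
  obtain ⟨s, hsn, hsQ⟩ := SetLike.exists_of_lt hn
  refine hsQ (mem_subgroupOf.mpr (heq.ge ⟨s.2, ?_⟩))
  change (s : G) ∈ normalizer (Q : Set G)
  rw [mem_normalizer_iff]
  intro x
  constructor
  · intro hx
    exact mem_subgroupOf.mp
      ((mem_normalizer_iff.mp hsn ⟨x, hQS.le hx⟩).mp (mem_subgroupOf.mpr hx))
  · intro hx
    have hxS : x ∈ S := by
      have := mul_mem (mul_mem (inv_mem s.2) (hQS.le hx)) s.2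
      simpa [mul_assoc] using this
    exact mem_subgroupOf.mp
      ((mem_normalizer_iff.mp hsn ⟨x, hxS⟩).mpr (mem_subgroupOf.mpr hx))

/-- A prime divides the order of a group only if it divides the index of a normal subgroup of
the Frattini subgroup. -/
theorem dvd_index_of_le_frattini {X : Type*} [Group X] [Finite X] (K : Subgroup X) [K.Normal]
    (hK : K ≤ frattini X) {q : ℕ} (hq : q.Prime) (hqX : q ∣ Nat.card X) : q ∣ K.index := by
  by_contra hni
  haveI := Fact.mk hq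
  obtain ⟨S⟩ : Nonempty (Sylow q X) := inferInstance
  have hSK : (S : Subgroup X) ≤ K := by
    intro x hx
    rw [← QuotientGroup.eq_one_iff]
    obtain ⟨k, hk⟩ := S.2 ⟨x, hx⟩
    have h1 : (QuotientGroup.mk x : X ⧸ K) ^ q ^ k = 1 := by
      have h0 : x ^ q ^ k = 1 := congrArg Subtype.val hk
      rw [← QuotientGroup.mk_pow, h0, QuotientGroup.mk_one]
    have h2 : orderOf (QuotientGroup.mk x : X ⧸ K) ∣ K.index := orderOf_dvd_natCard _
    rw [← orderOf_eq_one_iff]
    exact Nat.eq_one_of_dvd_coprimes (((hq.coprime_iff_not_dvd).mpr hni).pow_left k)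
      (orderOf_dvd_of_pow_eq_one h1) h2
  haveI := frattini_nilpotent (G := X)
  haveI hKnil : Group.IsNilpotent ↥K :=
    (Group.isNilpotent_congr (subgroupOfEquivOfLe hK)).mp (Subgroup.isNilpotent _)
  have hiff : Group.IsNilpotent ↥K ↔
      ∀ (q : ℕ) (_hq : Fact q.Prime) (P : Sylow q ↥K), (P : Subgroup ↥K).Normal :=
    (Group.isNilpotent_of_finite_tfae (G := ↥K)).out 0 3
  have hnK : ((S.subtype hSK : Sylow q ↥K) : Subgroup ↥K).Normal :=
    hiff.mp hKnil q inferInstance _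
  haveI hch : ((S.subtype hSK : Sylow q ↥K) : Subgroup ↥K).Characteristic :=
    (S.subtype hSK).characteristic_of_normal hnK
  haveI hSn : (S : Subgroup X).Normal := by
    have := ConjAct.normal_of_characteristic_of_normal (K := ((S.subtype hSK : Sylow q ↥K) : Subgroup ↥K))
    rwa [Sylow.coe_subtype, subgroupOf_map_subtype, inf_of_le_left hSK] at this
  obtain ⟨L, hL⟩ := Subgroup.exists_right_complement'_of_coprime (N := (S : Subgroup X)) S.card_coprime_index
  have hLtop : L = ⊤ := frattini_nongenerating (top_unique (hL.sup_eq_top.ge.trans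
    (sup_le (hSK.trans (hK.trans le_sup_right)) le_sup_left)))
  have hS1 : (S : Subgroup X) = ⊥ := by
    have := hL.disjoint.eq_bot
    rwa [hLtop, inf_top_eq] at this
  exact S.ne_bot_of_dvd_card hqX hS1

end Cfsg.Agent.Lib.PiHom69
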