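import Mathlib
import Cfsg.Agent.Lib.PiHomogeneous69.Basic
import Cfsg.Agent.Lib.Hall.Basic

/-!
# A dominating π-subgroup controls the fusion of its `p`-subgroups
-/

namespace Cfsg.Agent.Lib.PiHom69

open Subgroup

variable {G : Type*} [Group G] [Finite G]

/-- `H` controls the fusion of `Q`. -/
def Ctl (H Q : Subgroup G) : Prop :=
  ∀ g : G, cj g Q ≤ H → ∃ h ∈ H, ∀ q ∈ Q, h * q * h⁻¹ = g * q * g⁻¹

variable {p : ℕ} [hp : Fact p.Prime] {π : Set ℕ} {H : Subgroup G}

omit [Finite G] hp in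
theorem Ctl.factor {Q : Subgroup G} (h : Ctl H Q) {g : G} (hg : cj g Q ≤ H) :
    ∃ a ∈ H, ∃ c ∈ centralizer (Q : Set G), g = a * c := by
  obtain ⟨a, ha, he⟩ := h g hg
  refine ⟨a, ha, a⁻¹ * g, mem_centralizer_iff.mpr fun q hq => ?_, by group⟩
  calc q * (a⁻¹ * g) = a⁻¹ * (a * q * a⁻¹) * g := by group
    _ = a⁻¹ * (g * q * g⁻¹) * g := by rw [he q hq]
    _ = a⁻¹ * g * q := by group

theorem Hyp.factorization_eq (hH : Hyp π H) (hpπ : p ∈ π) :
    (Nat.card ↥H).factorization p = (Nat.card G).factorization p := by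
  refine le_antisymm ((Nat.factorization_le_iff_dvd Nat.card_pos.ne' Nat.card_pos.ne').mpr
    (card_subgroup_dvd_card H) p) ?_
  obtain ⟨S⟩ : Nonempty (Sylow p G) := inferInstance
  obtain ⟨g, hg⟩ := hH.conj (S : Subgroup G) (fun q hq hqS => by
    obtain ⟨k, hk⟩ := IsPGroup.iff_card.mp S.2
    have := (Nat.prime_dvd_prime_iff_eq hq hp.out).mp (hq.dvd_of_dvd_pow (hk ▸ hqS))
    exact this ▸ hpπ)
  have h1 : Nat.card ↥(S : Subgroup G) ∣ Nat.card ↥H := by
    rw [← card_cj g]; exact card_dvd_of_le (cj_le_iff.mpr hg)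
  rw [S.card_eq_multiplicity] at h1
  exact (hp.out.pow_dvd_iff_le_factorization Nat.card_pos.ne').mp h1

/-- Sylow subgroups of `H` are Sylow subgroups of `G`. -/
theorem isSyl_top_iff (hH : Hyp π H) (hpπ : p ∈ π) {R : Subgroup G} (hR : R ≤ H) :
    IsSyl p R H ↔ IsSyl p R ⊤ := by
  have hc : (Nat.card ↥(⊤ : Subgroup G)).factorization p = (Nat.card ↥H).factorization p := by
    rw [card_top, hH.factorization_eq hpπ]
  exact ⟨fun h => ⟨le_top, hc ▸ h.2⟩, fun h => ⟨hR, hc ▸ h.2⟩⟩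

theorem factorization_mono {A B : Subgroup G} (h : A ≤ B) :
    (Nat.card ↥A).factorization p ≤ (Nat.card ↥B).factorization p :=
  (Nat.factorization_le_iff_dvd Nat.card_pos.ne' Nat.card_pos.ne').mpr (card_dvd_of_le h) p

/-- `H` contains a Sylow `p`-subgroup of the normaliser of each of its `p`-subgroups. -/
theorem exists_sylow_normalizer (hH : Hyp π H) (hpπ : p ∈ π) {Q : Subgroup G}
    (hQ : IsPGroup p ↥Q) (hQH : Q ≤ H)
    (ih : ∀ P : Subgroup G, IsPGroup p ↥P → P ≤ H → Q < P → Ctl H P) :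
    ∃ T, IsSyl p T (normalizer (Q : Set G)) ∧ T ≤ H ∧ Q ≤ T ∧
      (Q < T ∨ (T = Q ∧ IsSyl p Q ⊤)) := by
  obtain ⟨R, hR, hQR⟩ := exists_isSyl_ge hQ hQH
  rcases eq_or_lt_of_le hQR with heq | hlt
  · subst heq
    have htop := (isSyl_top_iff hH hpπ hQH).mp hR
    refine ⟨Q, isSyl_of_le_card hQ Subgroup.le_normalizer ?_, hQH, le_rfl,
      Or.inr ⟨rfl, htop⟩⟩
    rw [htop.2]
    exact Nat.pow_le_pow_right hp.out.pos (factorization_mono le_top)
  · set P := R ⊓ normalizer (Q : Set G) with hP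
    have hQP : Q < P := lt_inf_normalizer hR.isPGroup hlt
    have hPp : IsPGroup p ↥P := hR.isPGroup.to_le inf_le_left
    have hPH : P ≤ H := inf_le_left.trans hR.1
    obtain ⟨T, hT, hPT⟩ := exists_isSyl_ge hPp (inf_le_right : P ≤ normalizer (Q : Set G))
    obtain ⟨e, he⟩ := hH.conj T (fun q hq hqT => by
      obtain ⟨k, hk⟩ := IsPGroup.iff_card.mp hT.isPGroup
      exact (Nat.prime_dvd_prime_iff_eq hq hp.out).mp (hq.dvd_of_dvd_pow (hk ▸ hqT)) ▸ hpπ)
    obtain ⟨a, ha, c, hc, rfl⟩ := (ih P hPp hPH hQP).factor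
      (cj_le_iff.mpr fun u hu => he u (hPT hu))
    have hfix : ∀ x ∈ P, c * x * c⁻¹ = x := fun x hx => by
      rw [← mem_centralizer_iff.mp hc x hx, mul_inv_cancel_right]
    have hcN : c ∈ normalizer (Q : Set G) :=
      centralizer_le_normalizer _ (centralizer_le (show (Q : Set G) ⊆ (P : Set G) from hQP.le) hc)
    refine ⟨cj c T, ⟨?_, by rw [card_cj]; exact hT.2⟩, ?_, ?_, Or.inl ?_⟩
    · rw [cj_le_iff]
      exact fun t ht => mul_mem (mul_mem hcN (hT.1 ht)) (inv_mem hcN)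
    · rw [cj_le_iff]
      intro t ht
      have := mul_mem (mul_mem (inv_mem ha) (he t ht)) ha
      simpa [mul_assoc] using this
    · intro x hx
      rw [← hfix x (hQP.le hx)]
      exact conj_mem_cj (hPT (hQP.le hx))
    · refine lt_of_lt_of_le hQP fun x hx => ?_
      rw [← hfix x hx]
      exact conj_mem_cj (hPT hx)

/-- The automizer of a `p`-subgroup of `H` is induced by `H`. -/
theorem exists_conj_eq_of_mem_normalizer (hH : Hyp π H) (hpπ : p ∈ π) {Q T : Subgroup G}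
    (hQ : IsPGroup p ↥Q) (hQH : Q ≤ H) (hT : IsSyl p T (normalizer (Q : Set G))) (hTH : T ≤ H)
    (hQT : Q ≤ T) (hcases : Q < T ∨ (T = Q ∧ IsSyl p Q ⊤))
    (ih : ∀ P : Subgroup G, IsPGroup p ↥P → P ≤ H → Q < P → Ctl H P) :
    ∀ y ∈ normalizer (Q : Set G), ∃ h ∈ H, ∀ q ∈ Q, h * q * h⁻¹ = y * q * y⁻¹ := by
  classical
  set Y := normalizer (Q : Set G) with hY
  set C := centralizer (Q : Set G) with hC
  by_cases hQ1 : Q = ⊥
  · exact fun y _ => ⟨1, one_mem _, fun q hq => by simp [hQ1] at hq; simp [hq]⟩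
  have hCY : C ≤ Y := centralizer_le_normalizer _
  have hCn : ∀ y ∈ Y, ∀ c ∈ C, y * c * y⁻¹ ∈ C := by
    intro y hy c hc
    refine mem_centralizer_iff.mpr fun q hq => ?_
    have h1 : y⁻¹ * q * y ∈ Q := (mem_normalizer_iff''.mp hy q).mp hq
    have h2 := mem_centralizer_iff.mp hc _ h1
    calc q * (y * c * y⁻¹) = y * (y⁻¹ * q * y * c) * y⁻¹ := by group
      _ = y * (c * (y⁻¹ * q * y)) * y⁻¹ := by rw [h2]
      _ = y * c * y⁻¹ * q := by group
  -- the Sylow subgroup of the centraliser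
  set T0 := T ⊓ C with hT0
  have hT0C : IsSyl p T0 C := by
    obtain ⟨S0, hS0, hTS⟩ := exists_isSyl_ge (hT.isPGroup.to_le (inf_le_left : T0 ≤ T))
      (inf_le_right : T0 ≤ C)
    obtain ⟨T1, hT1, hST⟩ := exists_isSyl_ge hS0.isPGroup (hS0.1.trans hCY)
    obtain ⟨y, hy, hyT⟩ := hT1.exists_conj hT
    refine isSyl_of_le_card (hT.isPGroup.to_le inf_le_left) inf_le_right ?_
    rw [← hS0.2, ← card_cj y S0]
    refine card_le_of_le (le_inf (hyT ▸ cj_mono hST) (cj_le_iff.mpr fun s hs => ?_))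
    exact hCn y hy s (hS0.1 hs)
  -- a minimal supplement of the centraliser normalising it
  obtain ⟨X, hXmin⟩ := Set.Finite.exists_minimal
    (s := {X : Subgroup G | X ≤ Y ⊓ normalizer (T0 : Set G) ∧
      ∀ y ∈ Y, ∃ x ∈ X, ∃ c ∈ C, y = x * c}) (Set.toFinite _)
    ⟨Y ⊓ normalizer (T0 : Set G), le_rfl, fun y hy => by
      have hyT : IsSyl p (cj y T0) C :=
        ⟨cj_le_iff.mpr fun t ht => hCn y hy t (hT0C.1 ht), by rw [card_cj]; exact hT0C.2⟩
      obtain ⟨c, hc, hce⟩ := hyT.exists_conj hT0C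
      rw [cj_cj] at hce
      refine ⟨c * y, ⟨mul_mem (hCY hc) hy, ?_⟩, y⁻¹ * c⁻¹ * y, ?_, by group⟩
      · change c * y ∈ normalizer (T0 : Set G)
        rw [mem_normalizer_iff]
        intro x
        conv_rhs => rw [← hce, mem_cj]
        simp [mul_assoc]
      · have := hCn y⁻¹ (inv_mem hy) c⁻¹ (inv_mem hc)
        simpa using this⟩
  obtain ⟨hXle, hXsup⟩ := hXmin.1
  have hXY : X ≤ Y := hXle.trans inf_le_left
  -- it is a π-group
  have hXpi : ∀ q : ℕ, q.Prime → q ∣ Nat.card ↥X → q ∈ π := by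
    intro q hq hqX
    haveI hKn : (C.subgroupOf X).Normal := ⟨fun c hc x => mem_subgroupOf.mpr (by
      simpa using hCn x (hXY x.2) c (mem_subgroupOf.mp hc))⟩
    have hfr : C.subgroupOf X ≤ frattini ↥X := by
      refine le_iInf₂ fun M hM => ?_
      by_contra hle
      have htop : M ⊔ C.subgroupOf X = ⊤ := hM.2 _ (lt_of_le_of_ne le_sup_left fun h =>
        hle (h ▸ le_sup_right))
      have hsmall : M.map X.subtype ∈ {X : Subgroup G | X ≤ Y ⊓ normalizer (T0 : Set G) ∧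
          ∀ y ∈ Y, ∃ x ∈ X, ∃ c ∈ C, y = x * c} := by
        refine ⟨(map_subtype_le M).trans hXle, fun y hy => ?_⟩
        obtain ⟨x, hx, c, hc, rfl⟩ := hXsup y hy
        have : (⟨x, hx⟩ : ↥X) ∈ ((M ⊔ C.subgroupOf X : Subgroup ↥X) : Set ↥X) := by
          rw [htop]; trivial
        rw [coe_mul_of_left_le_normalizer_right M _ le_normalizer_of_normal] at this
        obtain ⟨m, hm, k, hk, hmk⟩ := this
        refine ⟨m, ⟨m, hm, rfl⟩, k * c, mul_mem (mem_subgroupOf.mp hk) hc, ?_⟩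
        rw [← mul_assoc]
        exact congrArg (fun w : ↥X => (w : G) * c) hmk.symm
      have hXM : X ≤ M.map X.subtype := hXmin.2 hsmall (map_subtype_le M)
      refine hM.1 (top_unique fun x _ => ?_)
      obtain ⟨m, hm, hme⟩ := hXM x.2
      exact Subtype.ext hme ▸ hm
    have h1 : q ∣ C.relIndex X := dvd_index_of_le_frattini _ hfr hq hqX
    haveI : (C.subgroupOf Y).Normal := ⟨fun c hc y => mem_subgroupOf.mpr (by
      simpa using hCn y y.2 c (mem_subgroupOf.mp hc))⟩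
    have h2 : C.relIndex X ∣ C.relIndex Y := by
      rw [← relIndex_subgroupOf (H := C) hXY]
      exact relIndex_dvd_index_of_normal _ _
    exact hH.hom Q hQ1 (fun r hr hrQ => by
      obtain ⟨k, hk⟩ := IsPGroup.iff_card.mp hQ
      exact (Nat.prime_dvd_prime_iff_eq hr hp.out).mp (hr.dvd_of_dvd_pow (hk ▸ hrQ)) ▸ hpπ)
      q hq (h1.trans h2)
  set D := Q ⊔ T0 with hD
  set U := X ⊔ D with hU
  have hDT : D ≤ T := sup_le hQT inf_le_left
  have hUY : U ≤ Y := sup_le hXY (hDT.trans hT.1)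
  have hUpi : ∀ q : ℕ, q.Prime → q ∣ Nat.card ↥U → q ∈ π := by
    have hXN : X ≤ normalizer (D : Set G) := by
      intro x hx
      rw [hD, mem_normalizer_iff]
      have h1 : cj x Q = Q := le_antisymm
        (cj_le_iff.mpr fun u hu => (mem_normalizer_iff.mp (hXY hx) u).mp hu)
        fun u hu => mem_cj.mpr ((mem_normalizer_iff''.mp (hXY hx) u).mp hu)
      have h2 : cj x T0 = T0 := le_antisymm
        (cj_le_iff.mpr fun u hu => (mem_normalizer_iff.mp (hXle hx).2 u).mp hu)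
        fun u hu => mem_cj.mpr ((mem_normalizer_iff''.mp (hXle hx).2 u).mp hu)
      have h3 : cj x (Q ⊔ T0) = Q ⊔ T0 := by
        conv_rhs => rw [← h1, ← h2]
        exact Subgroup.map_sup Q T0 _
      intro u
      conv_rhs => rw [← h3, mem_cj]
      simp [mul_assoc]
    have hUN : U ≤ normalizer (D : Set G) := sup_le hXN Subgroup.le_normalizer
    haveI : (D.subgroupOf (normalizer (D : Set G))).Normal := normal_in_normalizer
    have hcard : ∀ A : Subgroup G, A ≤ normalizer (D : Set G) →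
        Nat.card ↥(A.subgroupOf (normalizer (D : Set G))) = Nat.card ↥A :=
      fun A hA => Nat.card_congr (subgroupOfEquivOfLe hA).toEquiv
    have hX' : Hall.IsPiNumber π (Nat.card ↥(X.subgroupOf (normalizer (D : Set G)))) := by
      rw [hcard X hXN]; exact hXpi
    have hD' : Hall.IsPiNumber π (Nat.card ↥(D.subgroupOf (normalizer (D : Set G)))) := by
      rw [hcard D Subgroup.le_normalizer]
      intro r hr hrD
      obtain ⟨k, hk⟩ := IsPGroup.iff_card.mp (hT.isPGroup.to_le hDT)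
      exact (Nat.prime_dvd_prime_iff_eq hr hp.out).mp (hr.dvd_of_dvd_pow (hk ▸ hrD)) ▸ hpπ
    have := Hall.isPiNumber_card_sup hX' hD'
    rw [← subgroupOf_sup hXN Subgroup.le_normalizer, ← hU, hcard U hUN] at this
    exact this
  -- its Sylow subgroup is Sylow in the normaliser
  have hUpart : p ^ (Nat.card ↥Y).factorization p ∣ Nat.card ↥U := by
    haveI hCnY : (C.subgroupOf Y).Normal := ⟨fun c hc y => mem_subgroupOf.mpr (by
      simpa using hCn y y.2 c (mem_subgroupOf.mp hc))⟩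
    let f := QuotientGroup.mk' (C.subgroupOf Y)
    have hsurj : (U.subgroupOf Y).map f = ⊤ := by
      refine top_unique fun z _ => ?_
      obtain ⟨⟨y, hy⟩, rfl⟩ := QuotientGroup.mk'_surjective _ z
      obtain ⟨x, hx, c, hc, rfl⟩ := hXsup y hy
      refine ⟨⟨x, hXY hx⟩, mem_subgroupOf.mpr (mem_sup_left hx), ?_⟩
      exact (QuotientGroup.mk'_eq_mk' _).mpr ⟨⟨c, hCY hc⟩, mem_subgroupOf.mpr hc, Subtype.ext rfl⟩
    have h1 : f.ker.relIndex (U.subgroupOf Y) = (C.subgroupOf Y).index := by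
      rw [relIndex_ker, hsurj]
      exact card_top
    rw [QuotientGroup.ker_mk', relIndex_subgroupOf (H := C) hUY] at h1
    have h2 : C.relIndex U * Nat.card ↥(C.subgroupOf U) = Nat.card ↥U :=
      index_mul_card (C.subgroupOf U)
    have h3 : (C.subgroupOf Y).index * Nat.card ↥C = Nat.card ↥Y := by
      rw [← Nat.card_congr (subgroupOfEquivOfLe hCY).toEquiv]
      exact index_mul_card _
    have h4 : Nat.card ↥T0 ∣ Nat.card ↥(C.subgroupOf U) := by
      rw [← Nat.card_congr (subgroupOfEquivOfLe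
        (show T0 ≤ U from le_sup_right.trans' le_sup_right)).toEquiv]
      exact card_dvd_of_le fun x hx => mem_subgroupOf.mpr (mem_subgroupOf.mp hx).2
    rw [hT0C.2] at h4
    have hi : (C.subgroupOf Y).index ≠ 0 := index_ne_zero_of_finite
    rw [← h3, Nat.factorization_mul hi Nat.card_pos.ne', Finsupp.add_apply, pow_add, ← h2, h1]
    exact Nat.mul_dvd_mul (Nat.ordProj_dvd _ _) h4
  obtain ⟨T2, hT2, -⟩ := exists_isSyl_ge (IsPGroup.of_bot : IsPGroup p ↥(⊥ : Subgroup G))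
    (bot_le : ⊥ ≤ U)
  have hT2Y : IsSyl p T2 Y := isSyl_of_le_card hT2.isPGroup (hT2.1.trans hUY) (by
    rw [hT2.2]
    exact Nat.pow_le_pow_right hp.out.pos
      ((hp.out.pow_dvd_iff_le_factorization Nat.card_pos.ne').mp hUpart))
  obtain ⟨y0, hy0, hy0T⟩ := hT2Y.exists_conj hT
  set U' := cj y0 U with hU'
  have hTU' : T ≤ U' := hy0T ▸ cj_mono hT2.1
  obtain ⟨e, he⟩ := hH.conj U' (fun q hq hqU => hUpi q hq (by rwa [hU', card_cj] at hqU))
  -- move it into `H` by an element of the normaliser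
  obtain ⟨z, hzY, hz⟩ : ∃ z ∈ Y, cj z U' ≤ H := by
    rcases hcases with hlt | ⟨hTeq, htop⟩
    · obtain ⟨a, ha, c, hc, rfl⟩ := (ih T hT.isPGroup hTH hlt).factor
        (cj_le_iff.mpr fun u hu => he u (hTU' hu))
      refine ⟨c, hCY (centralizer_le (show (Q : Set G) ⊆ (T : Set G) from hQT) hc), cj_le_iff.mpr fun u hu => ?_⟩
      have := mul_mem (mul_mem (inv_mem ha) (he u hu)) ha
      simpa [mul_assoc] using this
    · have heQ : IsSyl p (cj e Q) H := by
        have hle : cj e Q ≤ H := cj_le_iff.mpr fun u hu => he u (hTU' (hQT hu))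
        exact (isSyl_top_iff hH hpπ hle).mpr ⟨le_top, by rw [card_cj]; exact htop.2⟩
      obtain ⟨a, ha, hae⟩ := ((isSyl_top_iff hH hpπ hQH).mpr htop).exists_conj heQ
      refine ⟨a⁻¹ * e, ?_, cj_le_iff.mpr fun u hu => ?_⟩
      · have h1 : cj (a⁻¹ * e) Q = Q := by
          rw [← cj_cj, ← hae, cj_cj, inv_mul_cancel, cj_one]
        rw [hY, mem_normalizer_iff]
        intro x
        conv_rhs => rw [← h1, mem_cj]
        simp [mul_assoc]
      · have := mul_mem (mul_mem (inv_mem ha) (he u hu)) ha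
        simpa [mul_assoc] using this
  intro y hy
  obtain ⟨x, hx, c, hc, hxc⟩ := hXsup ((z * y0)⁻¹ * y * (z * y0))
    (mul_mem (mul_mem (inv_mem (mul_mem hzY hy0)) hy) (mul_mem hzY hy0))
  set w := z * y0 with hw
  have hwY : w ∈ Y := mul_mem hzY hy0
  refine ⟨w * x * w⁻¹, ?_, fun q hq => ?_⟩
  · apply hz
    rw [mem_cj, hU', mem_cj]
    have : y0⁻¹ * (z⁻¹ * (w * x * w⁻¹) * z) * y0 = x := by rw [hw]; group
    rw [this]
    exact mem_sup_left hx
  · have h1 : w * c * w⁻¹ ∈ C := hCn w hwY c hc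
    have h2 : w * c * w⁻¹ * q * (w * c * w⁻¹)⁻¹ = q := by
      rw [← mem_centralizer_iff.mp h1 q hq, mul_inv_cancel_right]
    have h3 : y = (w * x * w⁻¹) * (w * c * w⁻¹) := by
      calc y = w * (w⁻¹ * y * w) * w⁻¹ := by group
        _ = w * (x * c) * w⁻¹ := by rw [hxc]
        _ = _ := by group
    calc w * x * w⁻¹ * q * (w * x * w⁻¹)⁻¹
        = w * x * w⁻¹ * (w * c * w⁻¹ * q * (w * c * w⁻¹)⁻¹) * (w * x * w⁻¹)⁻¹ := by rw [h2]
      _ = y * q * y⁻¹ := by rw [h3]; group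

/-- `H` controls the fusion of its `p`-subgroups. -/
theorem ctl_of_isPGroup (hH : Hyp π H) (hpπ : p ∈ π) :
    ∀ Q : Subgroup G, IsPGroup p ↥Q → Q ≤ H → Ctl H Q := by
  suffices key : ∀ n, ∀ Q : Subgroup G, Nat.card G - Nat.card ↥Q = n → IsPGroup p ↥Q → Q ≤ H →
      Ctl H Q from fun Q => key _ Q rfl
  intro n
  induction n using Nat.strong_induction_on with
  | _ n ih0 =>
  intro Q hn hQ hQH g hg
  have ih : ∀ Q₀ : Subgroup G, Nat.card ↥Q₀ = Nat.card ↥Q →
      ∀ P : Subgroup G, IsPGroup p ↥P → P ≤ H → Q₀ < P → Ctl H P := by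
    intro Q₀ hQ₀ P hP hPH hlt
    have h1 : Nat.card ↥Q₀ < Nat.card ↥P := lt_of_le_of_ne (card_le_of_le hlt.le) fun h =>
      hlt.ne (eq_of_le_of_card_ge hlt.le h.ge)
    have h2 := card_le_card_group P
    exact ih0 _ (by omega) P rfl hP hPH
  obtain ⟨T, hT, hTH, hQT, hcases⟩ := exists_sylow_normalizer hH hpπ hQ hQH (ih Q rfl)
  set Q1 := cj g Q with hQ1
  have hQ1p : IsPGroup p ↥Q1 := hQ.map _
  obtain ⟨T1, hT1, hT1H, hQT1, hcases1⟩ :=
    exists_sylow_normalizer hH hpπ hQ1p hg (ih Q1 (card_cj g Q))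
  have haut := exists_conj_eq_of_mem_normalizer hH hpπ hQ1p hg hT1 hT1H hQT1 hcases1
    (ih Q1 (card_cj g Q))
  obtain ⟨a, ha, n₁, hn₁, han⟩ : ∃ a ∈ H, ∃ n₁ ∈ normalizer (Q1 : Set G),
      ∀ q ∈ Q, a * q * a⁻¹ = n₁ * (g * q * g⁻¹) * n₁⁻¹ := by
    rcases hcases with hlt | ⟨-, htop⟩
    · have hcN : cj g (normalizer (Q : Set G)) = normalizer (Q1 : Set G) := by
        ext x
        rw [mem_cj, mem_normalizer_iff, mem_normalizer_iff]
        constructor
        · intro h u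
          rw [hQ1, mem_cj, mem_cj, h (g⁻¹ * u * g)]
          simp [mul_assoc]
        · intro h u
          have := h (g * u * g⁻¹)
          rw [hQ1, mem_cj, mem_cj] at this
          simpa [mul_assoc] using this
      have hgT : IsSyl p (cj g T) (normalizer (Q1 : Set G)) := by
        refine ⟨hcN ▸ cj_mono hT.1, ?_⟩
        rw [card_cj, hT.2, ← hcN, card_cj]
      obtain ⟨n₁, hn₁, hn₁T⟩ := hgT.exists_conj hT1
      rw [cj_cj] at hn₁T
      obtain ⟨a, ha, hae⟩ := ih Q rfl T hT.isPGroup hTH hlt (n₁ * g) (hn₁T ▸ hT1H)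
      refine ⟨a, ha, n₁, hn₁, fun q hq => ?_⟩
      rw [hae q (hQT hq)]
      group
    · have hQs := (isSyl_top_iff hH hpπ hQH).mpr htop
      have hQ1s : IsSyl p Q1 H := ⟨hg, by rw [card_cj]; exact hQs.2⟩
      obtain ⟨a, ha, hae⟩ := hQs.exists_conj hQ1s
      refine ⟨a, ha, a * g⁻¹, ?_, fun q hq => by group⟩
      have h1 : cj (a * g⁻¹) Q1 = Q1 := by
        rw [hQ1, cj_cj, inv_mul_cancel_right, hae]
      rw [mem_normalizer_iff]
      intro x
      conv_rhs => rw [← h1, mem_cj]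
      simp [mul_assoc]
  obtain ⟨b, hb, hbe⟩ := haut n₁⁻¹ (inv_mem hn₁)
  refine ⟨b * a, mul_mem hb ha, fun q hq => ?_⟩
  have hm : a * q * a⁻¹ ∈ Q1 := by
    rw [han q hq]
    exact (mem_normalizer_iff.mp hn₁ _).mp (conj_mem_cj hq)
  calc b * a * q * (b * a)⁻¹ = b * (a * q * a⁻¹) * b⁻¹ := by group
    _ = g * q * g⁻¹ := by rw [hbe _ hm, han q hq]; group

end Cfsg.Agent.Lib.PiHom69
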