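import Mathlib
import Cfsg.Agent.Lib.PiHomogeneous69.Fusion
import Cfsg.Agent.Lib.BrauerInd.BrauerSuzuki
import Cfsg.Prelude.Def_HallClasses

/-!
# A π-homogeneous `D_π` group is π'-closed
-/

namespace Cfsg.Agent.Lib.PiHom69

open Subgroup

universe u

variable {G : Type u} [Group G] [Finite G] {π : Set ℕ} {H : Subgroup G}

/-- The hypotheses pass to the centraliser of an element whose fusion is controlled. -/
theorem Hyp.centralizer (hH : Hyp π H) {v : G} (hv : v ∈ H)
    (hctl : ∀ g : G, g * v * g⁻¹ ∈ H → ∃ h ∈ H, h * v * h⁻¹ = g * v * g⁻¹) :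
    Hyp π (H.subgroupOf (Subgroup.centralizer ({v} : Set G))) := by
  set C := Subgroup.centralizer ({v} : Set G) with hC
  have hvC : v ∈ C := mem_centralizer_singleton_iff.mpr rfl
  refine ⟨fun q hq hqd => hH.pi q hq (hqd.trans (card_comap_dvd_of_injective H C.subtype
    C.subtype_injective)), fun U hU => ?_, fun U hU1 hU q hq hqd => ?_⟩
  · let Z : Subgroup ↥C := zpowers ⟨v, hvC⟩
    haveI : Z.Normal := ⟨fun z hz c => by
      obtain ⟨i, rfl⟩ := hz
      refine ⟨i, Subtype.ext ?_⟩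
      have h1 : Commute (c : G) (v ^ i) :=
        (show Commute (c : G) v from mem_centralizer_singleton_iff.mp c.2).zpow_right i
      push_cast
      rw [h1.eq, mul_inv_cancel_right]⟩
    have hZ : Hall.IsPiNumber π (Nat.card ↥Z) := by
      rw [Nat.card_zpowers, orderOf_mk]
      intro q hq hqd
      refine hH.pi q hq (hqd.trans ?_)
      rw [← orderOf_mk v hv]
      exact orderOf_dvd_natCard _
    have hV : Hall.IsPiNumber π (Nat.card ↥((U ⊔ Z).map C.subtype)) := by
      rw [← Nat.card_congr ((U ⊔ Z).equivMapOfInjective _ C.subtype_injective).toEquiv]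
      exact Hall.isPiNumber_card_sup (show Hall.IsPiNumber π (Nat.card ↥U) from hU) hZ
    obtain ⟨t, ht⟩ := hH.conj _ hV
    obtain ⟨a, ha, hae⟩ := hctl t
      (ht v ⟨⟨v, hvC⟩, mem_sup_right (mem_zpowers _), rfl⟩)
    have hc : a⁻¹ * t ∈ C := mem_centralizer_singleton_iff.mpr (by
      calc a⁻¹ * t * v = a⁻¹ * (t * v * t⁻¹) * t := by group
        _ = a⁻¹ * (a * v * a⁻¹) * t := by rw [hae]
        _ = v * (a⁻¹ * t) := by group)
    refine ⟨⟨a⁻¹ * t, hc⟩, fun u hu => mem_subgroupOf.mpr ?_⟩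
    have := mul_mem (mul_mem (inv_mem ha) (ht u ⟨u, mem_sup_left hu, rfl⟩)) ha
    push_cast
    simpa [mul_assoc] using this
  · set U' := U.map C.subtype with hU'
    have hU'1 : U' ≠ ⊥ := fun h => hU1 ((map_eq_bot_iff_of_injective _ C.subtype_injective).mp h)
    have hU'pi : ∀ r : ℕ, r.Prime → r ∣ Nat.card ↥U' → r ∈ π := fun r hr hrd => hU r hr (by
      rwa [hU', ← Nat.card_congr (U.equivMapOfInjective _ C.subtype_injective).toEquiv] at hrd)
    have hmem : ∀ x : ↥C, (x : G) ∈ U' ↔ x ∈ U := fun x => by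
      rw [hU', ← coe_subtype, mem_map_iff_mem C.subtype_injective]
    have hcen : Subgroup.centralizer (U : Set ↥C) =
        (Subgroup.centralizer (U' : Set G)).subgroupOf C := by
      ext x
      simp only [mem_subgroupOf, mem_centralizer_iff, SetLike.mem_coe]
      constructor
      · rintro h _ ⟨u, hu, rfl⟩; exact congrArg Subtype.val (h u hu)
      · intro h u hu; exact Subtype.ext (h u ((hmem u).mpr hu))
    have hnor : normalizer (U : Set ↥C) ≤ (normalizer (U' : Set G)).subgroupOf C := by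
      intro x hx
      rw [mem_subgroupOf, mem_normalizer_iff]
      intro g
      constructor
      · intro hg
        have hgC : g ∈ C := map_subtype_le U hg
        exact (hmem (x * ⟨g, hgC⟩ * x⁻¹)).mpr
          ((mem_normalizer_iff.mp hx _).mp ((hmem ⟨g, hgC⟩).mp hg))
      · intro hg
        have hgC : g ∈ C := by
          have := mul_mem (mul_mem (inv_mem x.2) (map_subtype_le U hg)) x.2
          simpa [mul_assoc] using this
        exact (hmem ⟨g, hgC⟩).mpr
          ((mem_normalizer_iff.mp hx _).mpr ((hmem (x * ⟨g, hgC⟩ * x⁻¹)).mp hg))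
    refine hH.hom U' hU'1 hU'pi q hq (hqd.trans ?_)
    rw [hcen, subgroupOf, relIndex_comap]
    set N := normalizer (U' : Set G) with hN
    have hle : (normalizer (U : Set ↥C)).map C.subtype ≤ N := by
      rintro _ ⟨x, hx, rfl⟩; exact hnor hx
    haveI : ((Subgroup.centralizer (U' : Set G)).subgroupOf N).Normal :=
      ⟨fun c hc y => mem_subgroupOf.mpr (mem_centralizer_iff.mpr fun w hw => by
        have h1 := mem_centralizer_iff.mp (mem_subgroupOf.mp hc) _
          ((mem_normalizer_iff''.mp y.2 w).mp hw)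
        push_cast
        calc w * ((y : G) * c * (y : G)⁻¹) = y * (((y : G)⁻¹ * w * y) * c) * (y : G)⁻¹ := by group
          _ = y * (c * ((y : G)⁻¹ * w * y)) * (y : G)⁻¹ := by rw [h1]
          _ = (y : G) * c * (y : G)⁻¹ * w := by group)⟩
    rw [← relIndex_subgroupOf (H := Subgroup.centralizer (U' : Set G)) hle]
    exact relIndex_dvd_index_of_normal _ _

/-- `H` controls the fusion of its elements. -/
theorem exists_conj_eq (hH : Hyp π H) :
    ∀ x ∈ H, ∀ g : G, g * x * g⁻¹ ∈ H → ∃ h ∈ H, h * x * h⁻¹ = g * x * g⁻¹ := by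
  suffices key : ∀ n, ∀ x ∈ H, orderOf x = n → ∀ g : G, g * x * g⁻¹ ∈ H →
      ∃ h ∈ H, h * x * h⁻¹ = g * x * g⁻¹ from fun x hx => key _ x hx rfl
  intro n
  induction n using Nat.strong_induction_on with
  | _ n ih =>
  intro x hx hn g hg
  by_cases h1 : n = 1
  · rw [h1, orderOf_eq_one_iff] at hn
    exact ⟨1, one_mem _, by simp [hn]⟩
  obtain ⟨p, hp, hpn⟩ := Nat.exists_prime_and_dvd h1
  haveI := Fact.mk hp
  have hpπ : p ∈ π := hH.pi p hp (hpn.trans (hn ▸ by
    rw [← orderOf_mk x hx]; exact orderOf_dvd_natCard _))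
  obtain ⟨u, v, huv, hcomm, hvx, hux, ⟨a, ha⟩, hv⟩ := Cfsg.Agent.Lib.BrauerInd.exists_pPart_mul x hp
  have hvH : v ∈ H := zpowers_le.mpr hx hvx
  have huH : u ∈ H := zpowers_le.mpr hx hux
  have hlt : orderOf v < n := by
    obtain ⟨i, rfl⟩ := hvx
    have hd : orderOf (x ^ i) ∣ n := by
      rw [← hn, ← Nat.card_zpowers x]
      exact Subgroup.orderOf_dvd_natCard _ ⟨i, rfl⟩
    refine lt_of_le_of_ne (Nat.le_of_dvd (hn ▸ orderOf_pos x) hd) fun he => ?_
    have hvp : p ∣ orderOf (x ^ i) := by rw [he]; exact hpn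
    exact (hp.coprime_iff_not_dvd.mp hv.symm) hvp
  have hconjH : ∀ w ∈ zpowers x, g * w * g⁻¹ ∈ H := by
    rintro _ ⟨i, rfl⟩
    rw [← conj_zpow]
    exact zpow_mem hg i
  obtain ⟨b, hb, hbe⟩ := ih _ hlt v hvH rfl g (hconjH v hvx)
  set C := Subgroup.centralizer ({v} : Set G) with hC
  have hcC : b⁻¹ * g ∈ C := mem_centralizer_singleton_iff.mpr (by
    calc b⁻¹ * g * v = b⁻¹ * (g * v * g⁻¹) * g := by group
      _ = b⁻¹ * (b * v * b⁻¹) * g := by rw [hbe]
      _ = v * (b⁻¹ * g) := by group)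
  have huC : u ∈ C := mem_centralizer_singleton_iff.mpr hcomm.eq
  have hHC := hH.centralizer hvH (fun g' hg' => ih _ hlt v hvH rfl g' hg')
  have hQp : IsPGroup p ↥(zpowers (⟨u, huC⟩ : ↥C)) := by
    rintro ⟨w, i, rfl⟩
    refine ⟨a, Subtype.ext (Subtype.ext ?_)⟩
    push_cast
    rw [← zpow_natCast, ← zpow_mul, mul_comm, zpow_mul, zpow_natCast, ha, one_zpow]
  obtain ⟨c, hc, hce⟩ := ctl_of_isPGroup hHC hpπ _ hQp
    (zpowers_le.mpr (mem_subgroupOf.mpr huH)) ⟨b⁻¹ * g, hcC⟩ (cj_le_iff.mpr fun w hw => by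
      obtain ⟨i, rfl⟩ := hw
      rw [mem_subgroupOf]
      push_cast
      have := mul_mem (mul_mem (inv_mem hb) (hconjH (u ^ i) (zpow_mem hux i))) hb
      simpa [mul_assoc] using this)
  refine ⟨b * c, mul_mem hb hc, ?_⟩
  have hu' : (c : G) * u * (c : G)⁻¹ = b⁻¹ * g * u * (b⁻¹ * g)⁻¹ :=
    congrArg Subtype.val (hce _ (mem_zpowers _))
  have hv' : (c : G) * v * (c : G)⁻¹ = v := by
    rw [(mem_centralizer_singleton_iff.mp c.2), mul_inv_cancel_right]
  rw [huv]
  calc b * c * (u * v) * (b * c)⁻¹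
      = b * ((c : G) * u * (c : G)⁻¹) * ((c : G) * v * (c : G)⁻¹) * b⁻¹ := by group
    _ = b * (b⁻¹ * g * u * (b⁻¹ * g)⁻¹) * v * b⁻¹ := by rw [hu', hv']
    _ = g * u * g⁻¹ * (b * v * b⁻¹) := by group
    _ = g * (u * v) * g⁻¹ := by rw [hbe]; group

/-- A π-homogeneous `D_π` group has a normal π-complement. -/
theorem piClosed_of_dpi (hD : Cfsg.IsDPiGroup π G)
    (hhom : ∀ H : Subgroup G, H ≠ ⊥ → (∀ p : ℕ, p.Prime → p ∣ Nat.card ↥H → p ∈ π) →
      ∀ p : ℕ, p.Prime → p ∣ (Subgroup.centralizer (H : Set G)).relIndex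
        (normalizer (H : Set G)) → p ∈ π) :
    ∃ K : Subgroup G, ∀ x : G, x ∈ K ↔ ∀ p : ℕ, p.Prime → p ∣ orderOf x → p ∉ π := by
  classical
  have hmax : ∀ U : Subgroup G, Cfsg.IsPiSubgroup π U →
      ∃ M, Maximal (Cfsg.IsPiSubgroup π) M ∧ U ≤ M := fun U hU => by
    obtain ⟨M, hUM, hM⟩ := Set.Finite.exists_le_maximal (s := {M | Cfsg.IsPiSubgroup π M})
      (Set.toFinite _) hU
    exact ⟨M, hM, hUM⟩
  obtain ⟨H, hH, -⟩ := hmax ⊥ (fun p hp hd => absurd (by simpa using hd) hp.ne_one)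
  have hyp : Hyp π H := ⟨hH.1, fun U hU => by
    obtain ⟨M, hM, hUM⟩ := hmax U hU
    obtain ⟨g, hg⟩ := hD M H hM hH
    exact ⟨g, fun u hu => hg.ge (mem_map_of_mem _ (hUM hu))⟩, hhom⟩
  have hidx : ∀ q : ℕ, q.Prime → q ∈ π → ¬ q ∣ H.index := by
    intro q hq hqπ hd
    haveI := Fact.mk hq
    have h1 := hyp.factorization_eq (p := q) hqπ
    have h2 := congrArg (fun n => n.factorization q) H.card_mul_index
    simp only [Nat.factorization_mul Nat.card_pos.ne' index_ne_zero_of_finite,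
      Finsupp.add_apply] at h2
    have := hq.factorization_pos_of_dvd index_ne_zero_of_finite hd
    omega
  have hcop : Nat.Coprime (Nat.card ↥H) H.index :=
    Nat.coprime_of_dvd fun q hq h1 h2 => hidx q hq (hH.1 q hq h1) h2
  obtain ⟨K, hK, hKH, hKd⟩ := Cfsg.Agent.Lib.BrauerInd.brauer_suzuki_complement H hcop
    (fun x hx y hy hxy => by
      obtain ⟨g, rfl⟩ := isConj_iff.mp hxy
      exact exists_conj_eq hyp x hx g hy)
    (fun E p _ _ hE => by
      obtain ⟨g, hg⟩ := hyp.conj E fun q hq hqE => hH.1 q hq (hqE.trans hE)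
      exact ⟨g, cj_le_iff.mpr hg⟩)
  haveI := hK
  have hcompl : Subgroup.IsComplement' K H := isComplement'_of_disjoint_and_mul_eq_univ
    (disjoint_iff.mpr hKd) (by rw [← normal_mul, hKH, coe_top])
  refine ⟨K, fun x => ⟨fun hx q hq hqx hqπ => hidx q hq hqπ ?_, fun hx => ?_⟩⟩
  · rw [hcompl.index_eq_card]
    refine hqx.trans ?_
    rw [← orderOf_mk x hx]
    exact orderOf_dvd_natCard _
  · rw [← QuotientGroup.eq_one_iff, ← orderOf_eq_one_iff]
    refine Nat.eq_one_of_dvd_coprimes (Nat.coprime_of_dvd fun q hq h1 h2 => hx q hq h1 (hH.1 q hq ?_))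
      (orderOf_map_dvd (QuotientGroup.mk' K) x) (orderOf_dvd_natCard _)
    rw [← hcompl.symm.index_eq_card]
    exact h2

end Cfsg.Agent.Lib.PiHom69
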